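import Cfsg.Agent.H198.IF.Step
import Cfsg.Agent.H325.IF.Inv

/-!
# S5719: involutions with a 4-dimensional `(-1)`-space are fundamental (helper601, from helper325)
-/

set_option autoImplicit false

namespace Cfsg.Agent.H601.OTri

open QuadraticMap Module Cfsg.Agent.LieClassical.OrthCore Cfsg.Agent.LieClassical.OrthTrans
open Cfsg.Agent.H989.Gs.Gen (ap)
open Cfsg.Agent.H989.Fx (Fund)
open Cfsg.Agent.H198.IF (Neg)

variable {F V : Type*} [Field F] [AddCommGroup V] [Module F V] {Q : QuadraticForm F V}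

theorem neg_eq_Vm (t : ↥(E Q)) : Neg t = H325.IF.Vm t := by
  ext v
  rw [H325.IF.mem_Vm]
  rfl

theorem fund_of_neg_good [Finite F] [FiniteDimensional F V] (h2 : (2 : F) ≠ 0) (hG : Good Q) {t : ↥(E Q)}
    (ht : t * t = 1) (h4 : finrank F (Neg t) = 4) : Fund Q t :=
  H325.IF.fund_of_finrank h2 hG ht (by rw [← neg_eq_Vm, h4])

theorem neg_even_good [Finite F] [FiniteDimensional F V] (h2 : (2 : F) ≠ 0) (hG : Good Q) {t : ↥(E Q)}
    (ht : t * t = 1) : Even (finrank F (Neg t)) := by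
  rw [neg_eq_Vm]
  exact H325.IF.even_Vm h2 ht hG

theorem fund_of_neg [Finite F] [FiniteDimensional F V] (h2 : (2 : F) ≠ 0) (hQ : Nondeg Q) (hd : 5 ≤ finrank F V)
    {t : ↥(E Q)} (ht : t * t = 1) (h4 : finrank F (Neg t) = 4) : Fund Q t :=
  fund_of_neg_good h2 (Cfsg.Agent.LieClassical.OrthFinite.good_of_finite hQ hd) ht h4

theorem neg_even [Finite F] [FiniteDimensional F V] (h2 : (2 : F) ≠ 0) (hQ : Nondeg Q) (hd : 5 ≤ finrank F V)
    {t : ↥(E Q)} (ht : t * t = 1) : Even (finrank F (Neg t)) :=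
  neg_even_good h2 (Cfsg.Agent.LieClassical.OrthFinite.good_of_finite hQ hd) ht

end Cfsg.Agent.H601.OTri
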